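import Groth.Agent.SGA3x.K197.RatNodes
import Groth.Agent.S7822
import Groth.Agent.Books.AffBridge2
import Mathlib.Algebra.DualNumber
import Mathlib.RingTheory.Ideal.Cotangent
import Mathlib.LinearAlgebra.Dual.Lemmas

/-!
# Dimension of an affine algebraic group and its `ε`-derivations
-/

set_option autoImplicit false
universe u

namespace K796.DimDer

open IsLocalRing

section alg

variable {E B R : Type u} [Field E] [CommRing B] [Algebra E B] (e : B →ₐ[E] E)

/-- derivations at a rational point -/
def Der : Submodule E (B →ₗ[E] E) where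
  carrier := {D | ∀ a b : B, D (a * b) = e a * D b + e b * D a}
  add_mem' := by
    intro D D' h h' a b
    rw [LinearMap.add_apply, LinearMap.add_apply, LinearMap.add_apply, h, h']
    ring
  zero_mem' := by intro a b; simp
  smul_mem' := by
    intro r D h a b
    rw [LinearMap.smul_apply, LinearMap.smul_apply, LinearMap.smul_apply, h]
    simp only [smul_eq_mul]
    ring

variable {e}

lemma der_one (D : Der e) : D.1 1 = 0 := by
  have h := D.2 1 1
  rw [mul_one, map_one e, one_mul] at h
  simpa using h

/-- the homomorphism to the dual numbers -/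
noncomputable def toDual (D : Der e) : B →ₐ[E] DualNumber E := AlgHom.ofLinearMap
    ({ toFun := fun a => TrivSqZeroExt.inl (e a) + TrivSqZeroExt.inr (D.1 a)
       map_add' := fun a b => by
         rw [map_add, map_add, TrivSqZeroExt.inl_add, TrivSqZeroExt.inr_add]
         abel
       map_smul' := fun r a => by
         apply TrivSqZeroExt.ext
         · simp
         · simp } : B →ₗ[E] DualNumber E)
    (by
      apply TrivSqZeroExt.ext
      · simp
      · simp [der_one D])
    (by
      intro a b
      apply TrivSqZeroExt.ext
      · simp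
      · simp [D.2 a b, mul_comm])

lemma fst_toDual (D : Der e) (b : B) : (toDual D b).fst = e b := by
  change (TrivSqZeroExt.inl (e b) + TrivSqZeroExt.inr (D.1 b) : DualNumber E).fst = _
  simp

lemma snd_toDual (D : Der e) (b : B) : (toDual D b).snd = D.1 b := by
  change (TrivSqZeroExt.inl (e b) + TrivSqZeroExt.inr (D.1 b) : DualNumber E).snd = _
  simp

variable (e) in
/-- the complement of the maximal ideal of a point -/
def cpl : Submonoid B where
  carrier := {s | e s ≠ 0}
  mul_mem' := by
    intro a b ha hb
    change e (a * b) ≠ 0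
    rw [map_mul]
    exact mul_ne_zero ha hb
  one_mem' := by
    change e 1 ≠ 0
    rw [map_one]
    exact one_ne_zero

variable [CommRing R] [IsLocalRing R] [Algebra B R] [IsLocalization (cpl e) R]

variable (R e) in
/-- the extension of the point to the local ring -/
noncomputable def eR : R →+* E := IsLocalization.lift (M := cpl e)
  (g := (e : B →+* E)) fun s => IsUnit.mk0 _ s.2

omit [IsLocalRing R] in
lemma eR_alg (b : B) : eR R e (algebraMap B R b) = e b := IsLocalization.lift_eq _ _

variable [Algebra E R] [IsScalarTower E B R]

omit [IsLocalRing R] in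
lemma eR_algE (x : E) : eR R e (algebraMap E R x) = x := by
  rw [IsScalarTower.algebraMap_apply E B R, eR_alg, AlgHom.commutes]
  rfl

omit [IsLocalRing R] in
lemma eR_surjective : Function.Surjective (eR R e) := fun x => ⟨algebraMap E R x, eR_algE x⟩

lemma ker_eR : RingHom.ker (eR R e) = maximalIdeal R :=
  IsLocalRing.eq_maximalIdeal (RingHom.ker_isMaximal_of_surjective _ eR_surjective)

lemma mem_max_iff (r : R) : r ∈ maximalIdeal R ↔ eR R e r = 0 := by
  rw [← ker_eR (e := e), RingHom.mem_ker]

lemma sub_mem_max (r : R) : r - algebraMap E R (eR R e r) ∈ maximalIdeal R := by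
  rw [mem_max_iff (e := e), map_sub, eR_algE, sub_self]

variable (R e) in
/-- the universal derivation -/
noncomputable def dR : R →ₗ[E] CotangentSpace R where
  toFun r := (maximalIdeal R).toCotangent ⟨_, sub_mem_max (e := e) r⟩
  map_add' r r' := by
    rw [← map_add]
    congr 1
    apply Subtype.ext
    change r + r' - algebraMap E R (eR R e (r + r')) =
      (r - algebraMap E R (eR R e r)) + (r' - algebraMap E R (eR R e r'))
    rw [map_add, map_add]
    ring
  map_smul' x r := by
    rw [RingHom.id_apply, ← algebraMap_smul R x (((maximalIdeal R).toCotangent ⟨_, sub_mem_max (e := e) r⟩)),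
      ← map_smul]
    congr 1
    apply Subtype.ext
    change x • r - algebraMap E R (eR R e (x • r)) = algebraMap E R x * (r - algebraMap E R (eR R e r))
    rw [Algebra.smul_def, map_mul, map_mul, eR_algE]
    ring

lemma dR_apply (r : R) : dR R e r = (maximalIdeal R).toCotangent ⟨_, sub_mem_max (e := e) r⟩ := rfl

lemma dR_of_mem (m : maximalIdeal R) : dR R e m.1 = (maximalIdeal R).toCotangent m := by
  rw [dR_apply]
  congr 1
  apply Subtype.ext
  change m.1 - algebraMap E R (eR R e m.1) = m.1
  rw [(mem_max_iff (e := e) m.1).1 m.2, map_zero, sub_zero]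

lemma dR_surjective : Function.Surjective (dR R e) := by
  intro v
  obtain ⟨m, rfl⟩ := Ideal.toCotangent_surjective _ v
  exact ⟨m.1, dR_of_mem m⟩

lemma dR_mul (r r' : R) : dR R e (r * r') = eR R e r • dR R e r' + eR R e r' • dR R e r := by
  rw [dR_apply, dR_apply, dR_apply, ← algebraMap_smul R (eR R e r), ← algebraMap_smul R (eR R e r'),
    ← map_smul, ← map_smul, ← map_add, Ideal.toCotangent_eq]
  change r * r' - algebraMap E R (eR R e (r * r')) - (algebraMap E R (eR R e r) *
    (r' - algebraMap E R (eR R e r')) + algebraMap E R (eR R e r') * (r - algebraMap E R (eR R e r))) ∈ _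
  have h : r * r' - algebraMap E R (eR R e (r * r')) - (algebraMap E R (eR R e r) *
    (r' - algebraMap E R (eR R e r')) + algebraMap E R (eR R e r') * (r - algebraMap E R (eR R e r))) =
    (r - algebraMap E R (eR R e r)) * (r' - algebraMap E R (eR R e r')) := by
    rw [map_mul, map_mul]
    ring
  rw [h, pow_two]
  exact Ideal.mul_mem_mul (sub_mem_max r) (sub_mem_max r')

variable (R e) in
/-- the comparison map -/
noncomputable def comp : Module.Dual E (CotangentSpace R) →ₗ[E] Der e where
  toFun f := ⟨(f.comp (dR R e)).comp (IsScalarTower.toAlgHom E B R).toLinearMap, by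
    intro a b
    change f (dR R e (algebraMap B R (a * b))) = e a * f (dR R e (algebraMap B R b)) +
      e b * f (dR R e (algebraMap B R a))
    rw [map_mul, dR_mul, map_add, map_smul, map_smul, eR_alg, eR_alg]
    rfl⟩
  map_add' f g := rfl
  map_smul' x f := rfl

lemma comp_apply (f : Module.Dual E (CotangentSpace R)) (b : B) :
    (comp R e f).1 b = f (dR R e (algebraMap B R b)) := rfl

theorem comp_injective : Function.Injective (comp R e) := by
  rw [injective_iff_map_eq_zero]
  intro f hf
  have h1 : ∀ b, f (dR R e (algebraMap B R b)) = 0 := fun b => by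
    rw [← comp_apply, hf]
    rfl
  apply LinearMap.ext
  intro v
  obtain ⟨r, rfl⟩ := dR_surjective (e := e) v
  obtain ⟨⟨b, s⟩, hbs⟩ := IsLocalization.surj (cpl e) r
  have h2 := congrArg (fun z => f (dR R e z)) hbs
  change f (dR R e (r * algebraMap B R s)) = f (dR R e (algebraMap B R b)) at h2
  rw [h1, dR_mul, map_add, map_smul, map_smul, h1, smul_zero, zero_add, eR_alg] at h2
  exact (smul_eq_zero.1 h2).resolve_left s.2

theorem comp_surjective : Function.Surjective (comp R e) := by
  intro D
  have hu : ∀ s : (cpl e), IsUnit ((toDual D : B →+* DualNumber E) s) := by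
    intro s
    rw [TrivSqZeroExt.isUnit_iff_isUnit_fst]
    change IsUnit (toDual D s.1).fst
    rw [fst_toDual]
    exact IsUnit.mk0 _ s.2
  let g : R →+* DualNumber E := IsLocalization.lift (M := (cpl e)) hu
  have hg : ∀ b, g (algebraMap B R b) = toDual D b := fun b => IsLocalization.lift_eq _ _
  have hgE : ∀ x : E, g (algebraMap E R x) = TrivSqZeroExt.inl x := by
    intro x
    rw [IsScalarTower.algebraMap_apply E B R, hg, AlgHom.commutes]
    rfl
  have hfst : ∀ r, (g r).fst = eR R e r := by
    intro r
    have h1 : ((TrivSqZeroExt.fstHom E E E).toRingHom.comp g) = eR R e := by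
      apply IsLocalization.ringHom_ext (cpl e)
      apply RingHom.ext
      intro b
      change (g (algebraMap B R b)).fst = eR R e (algebraMap B R b)
      rw [hg, eR_alg, fst_toDual]
    exact congrArg (fun q : R →+* E => q r) h1
  let _ : Module R E := Module.compHom E (eR R e)
  have hsmul : ∀ (r : R) (x : E), r • x = eR R e r * x := fun _ _ => rfl
  let f₀ : maximalIdeal R →ₗ[R] E :=
    { toFun := fun m => (g m.1).snd
      map_add' := fun m m' => by
        change (g (m.1 + m'.1)).snd = _
        rw [map_add, TrivSqZeroExt.snd_add]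
      map_smul' := fun r m => by
        change (g (r * m.1)).snd = _
        rw [map_mul, DualNumber.snd_mul, hfst, hfst, (mem_max_iff (e := e) m.1).1 m.2, mul_zero,
          add_zero]
        rfl }
  have hf₀ : ∀ x y : maximalIdeal R, f₀ (x * y) = 0 := by
    intro x y
    change (g (x.1 * y.1)).snd = 0
    rw [map_mul, DualNumber.snd_mul, hfst, hfst, (mem_max_iff (e := e) x.1).1 x.2,
      (mem_max_iff (e := e) y.1).1 y.2, mul_zero, zero_mul, add_zero]
  let f₁ := Ideal.Cotangent.lift f₀ hf₀
  let f : Module.Dual E (CotangentSpace R) :=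
    { toFun := f₁
      map_add' := f₁.map_add
      map_smul' := fun x v => by
        rw [← algebraMap_smul R x v, map_smul, hsmul, eR_algE]
        rfl }
  refine ⟨f, Subtype.ext (LinearMap.ext fun b => ?_)⟩
  rw [comp_apply, dR_apply]
  change f₁ ((maximalIdeal R).toCotangent _) = _
  rw [Ideal.Cotangent.lift_toCotangent]
  change (g (algebraMap B R b - algebraMap E R (eR R e (algebraMap B R b)))).snd = _
  rw [map_sub, hg, hgE, TrivSqZeroExt.snd_sub, snd_toDual, TrivSqZeroExt.snd_inl, sub_zero]

variable (R e) in
theorem finrank_E : Module.finrank E (CotangentSpace R) = Module.finrank E (Der e) := by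
  rw [← Subspace.dual_finrank_eq]
  exact (LinearEquiv.ofBijective (comp R e) ⟨comp_injective, comp_surjective⟩).finrank_eq

omit [IsLocalization (cpl e) R] in
lemma tower_res : IsScalarTower E (ResidueField R) (CotangentSpace R) := by
  apply IsScalarTower.of_algebraMap_smul
  intro x v
  rw [IsScalarTower.algebraMap_apply E R (ResidueField R), algebraMap_smul, algebraMap_smul]

include e in
lemma algebraMap_res_surjective : Function.Surjective (algebraMap E (ResidueField R)) := by
  intro y
  obtain ⟨r, rfl⟩ := IsLocalRing.residue_surjective y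
  refine ⟨eR R e r, ?_⟩
  rw [IsScalarTower.algebraMap_apply E R (ResidueField R)]
  symm
  rw [← sub_eq_zero]
  change residue R r - residue R (algebraMap E R (eR R e r)) = 0
  rw [← map_sub, residue_eq_zero_iff]
  exact sub_mem_max r

include e in
lemma finrank_res : Module.finrank E (ResidueField R) = 1 := by
  have h : Function.Bijective (Algebra.linearMap E (ResidueField R)) :=
    ⟨(algebraMap E (ResidueField R)).injective, algebraMap_res_surjective (e := e)⟩
  rw [← (LinearEquiv.ofBijective (Algebra.linearMap E (ResidueField R)) h).finrank_eq,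
    Module.finrank_self]

variable (R e) in
/-- **The cotangent space and the derivations at a rational point.** -/
theorem finrank_cotangent : Module.finrank (ResidueField R) (CotangentSpace R) =
    Module.finrank E (Der e) := by
  have := tower_res (E := E) (R := R)
  rw [← finrank_E R e, ← Module.finrank_mul_finrank E (ResidueField R) (CotangentSpace R),
    finrank_res (e := e), one_mul]

end alg

section main

open CategoryTheory MonoidalCategory CartesianMonoidalCategory MonObj GrpObj AlgebraicGeometry Limits
open Groth.Agent.Books.AffBridge Groth.Agent.Books.AffBridge2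

variable (E B : Type u) [Field E] [CommRing B] [HopfAlgebra E B]

lemma unit_asIdeal : (η[SpecOver E B].left (IsLocalRing.closedPoint E) : PrimeSpectrum B).asIdeal =
    RingHom.ker (Bialgebra.counitAlgHom E B) := by
  obtain ⟨x, hx⟩ : ∃ x : Spec (CommRingCat.of E), η[SpecOver E B].left (IsLocalRing.closedPoint E) =
      Spec.map (CommRingCat.ofHom (Bialgebra.counitAlgHom E B).toRingHom) x := by
    refine ⟨(unitIso E).hom.left (IsLocalRing.closedPoint E), ?_⟩
    rw [← unitIso_hom_specMap_counit]
    exact Scheme.Hom.comp_apply (unitIso E).hom.left (specMap E (Bialgebra.counitAlgHom E B)).left _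
  rw [hx]
  have h2 : (x : PrimeSpectrum E).asIdeal = ⊥ :=
    (Ideal.eq_bot_or_top _).resolve_right (PrimeSpectrum.isPrime (x : PrimeSpectrum E)).ne_top
  ext b
  change (Bialgebra.counitAlgHom E B) b ∈ (x : PrimeSpectrum E).asIdeal ↔ _
  rw [h2, Ideal.mem_bot, RingHom.mem_ker]

theorem finrank_unit : Module.finrank (IsLocalRing.ResidueField ((SpecOver E B).left.presheaf.stalk
      (η[SpecOver E B].left (IsLocalRing.closedPoint E))))
    (IsLocalRing.CotangentSpace ((SpecOver E B).left.presheaf.stalk
      (η[SpecOver E B].left (IsLocalRing.closedPoint E)))) = Module.finrank E (K197.Rat.eDer E B E) := by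
  have h1 := unit_asIdeal E B
  let p : Spec (CommRingCat.of B) := η[SpecOver E B].left (IsLocalRing.closedPoint E)
  let R := (Spec (CommRingCat.of B)).presheaf.stalk p
  let _ : Algebra B R := StructureSheaf.stalkAlgebra B p
  have h2 : IsLocalization.AtPrime R p.asIdeal := StructureSheaf.IsLocalization.to_stalk B p
  let e := Bialgebra.counitAlgHom E B
  have h3 : cpl e = p.asIdeal.primeCompl := by
    ext s
    change e s ≠ 0 ↔ s ∉ p.asIdeal
    rw [h1]
    rfl
  have h4 : IsLocalization (cpl e) R := by
    rw [h3]
    exact h2
  let _ : Algebra E R := ((algebraMap B R).comp (algebraMap E B)).toAlgebra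
  have h5 : IsScalarTower E B R := IsScalarTower.of_algebraMap_eq' rfl
  exact finrank_cotangent R e

/-- **Node N3.** -/
theorem main : K197.Rat.N3_dim.{u} := by
  intro E B _ _ _ _
  have hft : LocallyOfFiniteType (SpecOver E B).hom := by
    change LocallyOfFiniteType (Spec.map (CommRingCat.ofHom (algebraMap E B)))
    rw [HasRingHomProperty.Spec_iff (P := @LocallyOfFiniteType)]
    exact RingHom.finiteType_algebraMap.2 inferInstance
  obtain ⟨h1, h2, -⟩ := Groth.Agent.S7822.result E (SpecOver E B)
  rw [finrank_unit] at h1 h2
  exact ⟨h1, h2⟩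

end main

end K796.DimDer
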