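import Groth.Agent.SGA3x.K197.RatNodes2
import Groth.Agent.Sga3B.BcPts
import Groth.Agent.Sga3B.DSPts
import Groth.Agent.Books.AffBridge2

/-!
# Affine subgroups of base changes as Hopf algebras
-/

set_option autoImplicit false
universe u

open CategoryTheory MonoidalCategory CartesianMonoidalCategory MonObj GrpObj AlgebraicGeometry Limits
open Groth.Agent.Books.AffBridge WithConv

namespace K796.Dict

open K197.Rat Groth.Agent.Sga3B

section pts

variable {k E R : Type u} [Field k] [Field E] [Algebra k E] [CommRing R] [Algebra k R] [Algebra E R]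
  [IsScalarTower k E R]

variable (k E R) in
/-- the spectrum of an algebra, over the two bases -/
noncomputable def spO : SpecOver k R ≅ (Over.map (bs k E)).obj (SpecOver E R) :=
  Over.isoMk (Iso.refl (Spec (CommRingCat.of R))) (by
    change 𝟙 _ ≫ Spec.map (CommRingCat.ofHom (algebraMap E R)) ≫ Spec.map (CommRingCat.ofHom (algebraMap k E)) =
      Spec.map (CommRingCat.ofHom (algebraMap k R))
    rw [Category.id_comp, ← Spec.map_comp, ← CommRingCat.ofHom_comp, ← IsScalarTower.algebraMap_eq])

variable {G : Over (Spec (CommRingCat.of k))} [GrpObj G]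

/-- points of the base change -/
noncomputable def toG : (SpecOver E R ⟶ Red.bc (bs k E) G) ≃* (SpecOver k R ⟶ G) where
  toFun x := (spO k E R).hom ≫ (DSPts.bcEquiv (bs k E) _ G).symm x
  invFun y := DSPts.bcEquiv (bs k E) _ G ((spO k E R).inv ≫ y)
  left_inv x := by
    beta_reduce
    rw [Iso.inv_hom_id_assoc, MulEquiv.apply_symm_apply]
  right_inv y := by
    beta_reduce
    rw [MulEquiv.symm_apply_apply, Iso.hom_inv_id_assoc]
  map_mul' x y := by rw [_root_.map_mul, MonObj.comp_mul]

lemma toG_left (x : SpecOver E R ⟶ Red.bc (bs k E) G) :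
    (toG x).left = x.left ≫ pullback.fst G.hom (bs k E) := by
  change 𝟙 _ ≫ ((DSPts.bcEquiv (bs k E) _ G).symm x).left = _
  rw [Category.id_comp]
  exact DSPts.bcEquiv_symm_left _ _ _ _

end pts

/-- **Node N12.** -/
theorem main : N12_dict.{u} := by
  intro k E A _ _ _ _ _ H _ _ j _ _
  obtain ⟨B, _, _, e, he⟩ := exists_hopf E H
  let _ : Algebra k B := ((algebraMap E B).comp (algebraMap k E)).toAlgebra
  have htow : IsScalarTower k E B := IsScalarTower.of_algebraMap_eq' rfl
  let f : SpecOver E B ⟶ Red.bc (bs k E) (SpecOver k A) := e.inv ≫ j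
  have hf : IsMonHom f := inferInstance
  let ρ : A →ₐ[k] B := specPreimage k (toG f)
  have hρ : e.inv.left ≫ j.left ≫ pullback.fst (SpecOver k A).hom (bs k E) =
      Spec.map (CommRingCat.ofHom ρ.toRingHom) := by
    have h1 : (specMap k ρ).left = (toG f).left := by rw [specMap_specPreimage]
    rw [toG_left] at h1
    exact ((Category.assoc _ _ _).symm.trans h1.symm)
  have key : ∀ (R : Type u) [CommRing R] [Algebra k R] [Algebra E R] [IsScalarTower k E R]
      (ψ : Pt E B R), toG (specMap E ψ.ofConv ≫ f) = specMap k (resPt ρ ψ).ofConv := by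
    intro R _ _ _ _ ψ
    ext : 1
    rw [toG_left]
    change (Spec.map (CommRingCat.ofHom ψ.ofConv.toRingHom) ≫ e.inv.left ≫ j.left) ≫
      pullback.fst (SpecOver k A).hom (bs k E) =
      Spec.map (CommRingCat.ofHom ρ.toRingHom ≫ CommRingCat.ofHom ψ.ofConv.toRingHom)
    rw [Spec.map_comp, ← hρ, Category.assoc, Category.assoc]
    rfl
  refine ⟨B, inferInstance, inferInstance, inferInstance, htow, ρ, e, he, hρ, ?_, ?_⟩
  · intro R _ _ _ _
    refine ⟨?_, ?_, ?_⟩
    · intro ψ ψ'
      apply WithConv.ofConv_injective
      apply specMap_injective k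
      rw [← key, specMap_mul, specMap_mul, ← key, ← key, MonObj.mul_comp, _root_.map_mul]
    · intro ψ ψ' h
      have h1 := key R ψ
      rw [h, ← key R ψ'] at h1
      have h2 := toG.injective h1
      have h3 : Mono f := inferInstance
      rw [cancel_mono] at h2
      exact WithConv.ofConv_injective (specMap_injective E h2)
    · intro hj φ
      have h3 : IsIso f := inferInstance
      let x : SpecOver E R ⟶ SpecOver E B := toG.symm (specMap k φ.ofConv) ≫ inv f
      refine ⟨toConv (specPreimage E x), ?_⟩
      apply WithConv.ofConv_injective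
      apply specMap_injective k
      rw [← key]
      change toG (specMap E (specPreimage E x) ≫ f) = _
      rw [specMap_specPreimage, Category.assoc, IsIso.inv_hom_id, Category.comp_id,
        MulEquiv.apply_symm_apply]
  · intro hj
    let Q := pullbackSpecIso k A E
    have h0 : (SpecOver k A).hom = Spec.map (CommRingCat.ofHom (algebraMap k A)) := rfl
    let g : Spec (CommRingCat.of B) ⟶ Spec (CommRingCat.of (TensorProduct k A E)) :=
      e.inv.left ≫ j.left ≫ Q.hom
    have hiso : IsIso e.inv.left := inferInstanceAs (IsIso ((Over.forget _).map e.inv))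
    have hg : IsClosedImmersion g := by
      have h2 : IsClosedImmersion (j.left ≫ Q.hom) := MorphismProperty.comp_mem _ _ _ hj inferInstance
      have h4 : IsClosedImmersion e.inv.left := IsClosedImmersion.instOfIsIsoScheme e.inv.left
      exact MorphismProperty.comp_mem (W := @IsClosedImmersion) _ _ h4 h2
    obtain ⟨θ, hθ⟩ := Spec.map_surjective g
    rw [← hθ] at hg
    have hsurj : Function.Surjective θ.hom := by
      have h2 := (IsClosedImmersion.isAffine_surjective_of_isAffine (Spec.map θ)).2
      intro b
      obtain ⟨z, hz⟩ := h2 ((Scheme.ΓSpecIso _).inv.hom b)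
      refine ⟨(Scheme.ΓSpecIso _).hom.hom z, ?_⟩
      have h5 := congrArg (fun q => q.hom z) (Scheme.ΓSpecIso_naturality θ)
      refine h5.symm.trans ?_
      change (Scheme.ΓSpecIso _).hom.hom ((Spec.map θ).appTop.hom z) = b
      rw [hz]
      exact congrArg (fun q => q.hom b) (Scheme.ΓSpecIso (CommRingCat.of B)).inv_hom_id
    have h1 : ∀ a : A, θ.hom (a ⊗ₜ 1) = ρ a := by
      intro a
      have h2 : CommRingCat.ofHom (Algebra.TensorProduct.includeLeftRingHom) ≫ θ =
          CommRingCat.ofHom ρ.toRingHom := by
        apply Spec.map_injective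
        rw [Spec.map_comp, hθ, ← hρ, Category.assoc, Category.assoc]
        congr 2
        exact pullbackSpecIso_hom_fst k A E
      exact congrArg (fun q => q.hom a) h2
    have h3 : ∀ x : E, θ.hom (1 ⊗ₜ x) = algebraMap E B x := by
      intro x
      have h2 : CommRingCat.ofHom (Algebra.TensorProduct.includeRight (R := k) (A := A) (B := E)).toRingHom ≫ θ =
          CommRingCat.ofHom (algebraMap E B) := by
        apply Spec.map_injective
        rw [Spec.map_comp, hθ, Category.assoc, Category.assoc]
        have h4 : Q.hom ≫ Spec.map (CommRingCat.ofHom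
          (Algebra.TensorProduct.includeRight (R := k) (A := A) (B := E)).toRingHom) =
            pullback.snd _ _ := pullbackSpecIso_hom_snd k A E
        have h5 : j.left ≫ (Red.bc (bs k E) (SpecOver k A)).hom = H.hom := Over.w j
        have h6 : e.inv.left ≫ H.hom = (SpecOver E B).hom := Over.w e.inv
        refine (congrArg (fun q => e.inv.left ≫ j.left ≫ q) h4).trans ?_
        change e.inv.left ≫ j.left ≫ (Red.bc (bs k E) (SpecOver k A)).hom = _
        rw [h5, h6]
        rfl
      exact congrArg (fun q => q.hom x) h2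
    rw [Submodule.eq_top_iff']
    intro b
    obtain ⟨z, rfl⟩ := hsurj b
    induction z using TensorProduct.induction_on with
    | zero => rw [map_zero]; exact zero_mem _
    | add z w hz hw => rw [map_add]; exact add_mem hz hw
    | tmul a x =>
      have h7 : (a ⊗ₜ[k] x : TensorProduct k A E) = (a ⊗ₜ 1) * (1 ⊗ₜ x) := by
        rw [Algebra.TensorProduct.tmul_mul_tmul, _root_.mul_one, _root_.one_mul]
      rw [h7, _root_.map_mul, h1, h3, _root_.mul_comm, ← Algebra.smul_def]
      exact Submodule.smul_mem _ _ (Submodule.subset_span ⟨a, rfl⟩)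

end K796.Dict
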