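import Groth.Agent.SGA3x.K796.ResCv
import Groth.Agent.SGA3x.K796.Dict
import Groth.Agent.SGA3x.K197.RatNodes4
import Groth.Agent.SGA3x.K772.LieCent
import Groth.Agent.SGA3x.K979.Weight
import Groth.Agent.Sga3.H665.TorBcNA
import Groth.Agent.Sga3.H813.Neutral
import Groth.Agent.SGA3x.K14.CentMaxTorus

/-!
# A maximal torus of `Spec A` over `k`, split over the algebraically closed field `K` (node S1 of S8390)
-/

set_option autoImplicit false
universe u

open CategoryTheory MonoidalCategory CartesianMonoidalCategory MonObj GrpObj AlgebraicGeometry Limits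
open Groth.Agent.Books.AffBridge Groth.Agent.Books.AffBridge2 WithConv

namespace K796.Split

open K197.Rat Groth.Agent Groth.Agent.Sga3B K796.ResCv K796.Dict

section dict

variable {k K R : Type u} [Field k] [Field K] [Algebra k K] [CommRing R] [Algebra k R] [Algebra K R]
  [IsScalarTower k K R]

lemma toG_map {T G : Over (Spec (CommRingCat.of k))} [GrpObj T] [GrpObj G] (i : T ⟶ G)
    (x : SpecOver K R ⟶ Red.bc (bs k K) T) :
    toG (x ≫ (Over.pullback (bs k K)).map i) = toG x ≫ i := by
  ext : 1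
  have h1 : (toG (x ≫ (Over.pullback (bs k K)).map i)).left =
      (x.left ≫ ((Over.pullback (bs k K)).map i).left) ≫ pullback.fst G.hom (bs k K) := toG_left _
  have h2 : (toG x ≫ i).left = (x.left ≫ pullback.fst T.hom (bs k K)) ≫ i.left :=
    congrArg (fun q => q ≫ i.left) (toG_left x)
  have h3 : ((Over.pullback (bs k K)).map i).left ≫ pullback.fst G.hom (bs k K) =
      pullback.fst T.hom (bs k K) ≫ i.left := pullback.lift_fst _ _ _
  refine h1.trans (Eq.trans ?_ h2.symm)
  exact (Category.assoc _ _ _).trans ((congrArg (fun q => x.left ≫ q) h3).trans (Category.assoc _ _ _).symm)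

variable {A B : Type u} [CommRing A] [HopfAlgebra k A] [CommRing B] [HopfAlgebra K B] [Algebra k B]
  [IsScalarTower k K B] (ρ : A →ₐ[k] B) (e : Red.bc (bs k K) (SpecOver k A) ≅ SpecOver K B)

lemma key (hρ : e.inv.left ≫ pullback.fst (SpecOver k A).hom (bs k K) =
      Spec.map (CommRingCat.ofHom ρ.toRingHom)) (ψ : Pt K B R) :
    toG (specMap K ψ.ofConv ≫ e.inv) = specMap k (resPt ρ ψ).ofConv := by
  ext : 1
  rw [toG_left]
  change (Spec.map (CommRingCat.ofHom ψ.ofConv.toRingHom) ≫ e.inv.left) ≫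
    pullback.fst (SpecOver k A).hom (bs k K) =
    Spec.map (CommRingCat.ofHom ρ.toRingHom ≫ CommRingCat.ofHom ψ.ofConv.toRingHom)
  rw [Spec.map_comp, ← hρ, Category.assoc]
  rfl

end dict

/-- A group whose identity is the trivial homomorphism is trivial. -/
theorem isTrivialGrp_of_eq_one {S : Scheme.{u}} {Z : Over S} [GrpObj Z] (h : 𝟙 Z = 1) : Red.IsTrivialGrp Z := by
  have h1 : (η[Z] : 𝟙_ (Over S) ⟶ Z).left ≫ Z.hom = 𝟙 S := Over.w η[Z]
  have h2 : Z.hom ≫ (η[Z] : 𝟙_ (Over S) ⟶ Z).left = 𝟙 Z.left := by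
    have h3 : (toUnit Z ≫ η[Z]).left = (𝟙 Z : Z ⟶ Z).left := congrArg (fun x => x.left) h.symm
    have h4 : (toUnit Z).left = Z.hom := by
      have h5 := Over.w (toUnit Z)
      exact (Category.comp_id _).symm.trans h5
    rw [← h4]
    exact h3
  exact ⟨_, h2, h1⟩

/-- Triviality descends along field extensions. -/
theorem isTrivialGrp_of_bc {k K : Type u} [Field k] [Field K] [Algebra k K]
    {T : Over (Spec (CommRingCat.of k))} [GrpObj T] (h : Red.IsTrivialGrp (Red.bc (bs k K) T)) :
    Red.IsTrivialGrp T := by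
  have h1 : MorphismProperty.isomorphisms Scheme.{u} (pullback.snd T.hom (bs k K)) := h
  have h2 : (@Surjective ⊓ @Flat ⊓ @QuasiCompact : MorphismProperty Scheme.{u}) (bs k K) := by
    refine ⟨⟨?_, ?_⟩, inferInstance⟩
    · infer_instance
    · infer_instance
  exact MorphismProperty.of_pullback_snd_of_descendsAlong h2 h1

/-- `K ⊗ A` is a domain. -/
theorem isDomain_of_iso {k K A B : Type u} [Field k] [Field K] [IsAlgClosed K] [Algebra k K] [CommRing A]
    [IsDomain A] [HopfAlgebra k A] [Smooth (SpecOver k A).hom] [CommRing B] [HopfAlgebra K B]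
    (e : Red.bc (bs k K) (SpecOver k A) ≅ SpecOver K B) :
    IsDomain B ∧ Smooth (SpecOver K B).hom := by
  have hlft : LocallyOfFiniteType (SpecOver k A).hom := inferInstance
  have hconn : ConnectedSpace (SpecOver k A).left := inferInstanceAs (ConnectedSpace (PrimeSpectrum A))
  have h0 : GrpObj (Over.mk (SpecOver k A).hom) := (inferInstance : GrpObj (SpecOver k A))
  have hirr : GeometricallyIrreducible (SpecOver k A).hom :=
    Sga3C.GrpIrr.geometricallyIrreducible_of_connectedSpace (SpecOver k A).hom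
  have hconn' : ConnectedSpace (Red.bc (bs k K) (SpecOver k A)).left :=
    Sga3.H813.Neutral.connectedSpace_bc (SpecOver k A) (bs k K)
  have hsmK : Smooth (Red.bc (bs k K) (SpecOver k A)).hom :=
    inferInstanceAs (Smooth (pullback.snd (SpecOver k A).hom (bs k K)))
  have hsm : Smooth (SpecOver K B).hom := by
    have h1 : e.inv.left ≫ (Red.bc (bs k K) (SpecOver k A)).hom = (SpecOver K B).hom := Over.w e.inv
    have h2 : IsIso e.inv.left := inferInstanceAs (IsIso ((Over.forget _).map e.inv))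
    rw [← h1]
    infer_instance
  have hcn : ConnectedSpace (SpecOver K B).left :=
    (Books.AlgPtsIrred.homeo e).surjective.connectedSpace (Books.AlgPtsIrred.homeo e).continuous
  have hft : Algebra.FiniteType K B := (locallyOfFiniteType_specOver_iff K B).1 inferInstance
  exact ⟨(RG.BrPts.isDomain_iff (K := K) B).1 ⟨hsm, hcn⟩, hsm⟩

/-- **Node S1**, with the injectivity of the parametrization of the points of the torus. -/
theorem core (k K A : Type u) [Field k] [Field K] [IsAlgClosed K] [Algebra k K] [CommRing A] [IsDomain A]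
    [HopfAlgebra k A] [Smooth (SpecOver k A).hom] (T : Over (Spec (CommRingCat.of k))) [GrpObj T]
    (i : T ⟶ SpecOver k A) (hi : Red.IsMaximalTorus i)
    (hZ : ∀ (H : Over (Spec (CommRingCat.of K))) [GrpObj H] (v : H ⟶ Red.bc (bs k K) (SpecOver k A)) [IsMonHom v],
      SGA3x.IsMultTypeFT H → (∀ (X : Over (Spec (CommRingCat.of K))) (x : X ⟶ H)
        (g : X ⟶ Red.bc (bs k K) (SpecOver k A)), (x ≫ v) * g = g * (x ≫ v)) → v = 1) :
    ∃ (r : ℕ) (t : Pt k A (GA K (Fin r → ℤ))), IsHomT t ∧
      (∀ (R : Type u) [CommRing R] [Algebra k R] [Algebra K R] [IsScalarTower k K R] (φ : Pt k A R),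
        (∃ h : SpecOver k R ⟶ T, h ≫ i = specMap k φ.ofConv) ↔
          ∃ c : Multiplicative (Fin r → ℤ) →* R, φ = K197.Rat.T t c) ∧
      (∀ (R : Type u) [CommRing R] [Algebra k R] [Algebra K R] [IsScalarTower k K R]
        (c c' : Multiplicative (Fin r → ℤ) →* R), K197.Rat.T t c = K197.Rat.T t c' → c = c') ∧
      (∀ X : Cv k A K, IsDer X → IsWt t 0 X → ∃ lam : (Fin r → ℤ) →+ K, ∀ a : A, ∃ n₀ : ℕ, ∀ n ≥ n₀,
        ((X - dh t lam) ^ n) a = 0) ∧
      (r ≠ 0 → ∃ (χ : Fin r → ℤ) (lam : (Fin r → ℤ) →+ K) (X : Cv k A K), lam χ ≠ 0 ∧ X ≠ 0 ∧ IsDer X ∧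
        IsWt t χ X) ∧
      (r = 0 → Red.IsTrivialGrp T) := by
  have him : IsMonHom i := hi.1
  have himono : Mono i := hi.2.1
  have hlft : LocallyOfFiniteType (SpecOver k A).hom := inferInstance
  have haff : IsAffine (Red.bc (bs k K) (SpecOver k A)).left :=
    inferInstanceAs (IsAffine (pullback (SpecOver k A).hom (bs k K)))
  obtain ⟨B, _, _, _, htow, ρ, e, he, hρ, hpts, hspan⟩ :=
    K796.Dict.main k K A (Red.bc (bs k K) (SpecOver k A)) (𝟙 _)
  have hρ' : e.inv.left ≫ pullback.fst (SpecOver k A).hom (bs k K) =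
      Spec.map (CommRingCat.ofHom ρ.toRingHom) := by
    rw [← hρ]
    congr 1
  have hres : IsRes K ρ := fun R _ _ _ _ => (hpts R).1
  have hbij : ∀ (R : Type u) [CommRing R] [Algebra k R] [Algebra K R] [IsScalarTower k K R],
      Function.Bijective (resPt ρ : Pt K B R → Pt k A R) :=
    fun R _ _ _ _ => ⟨(hpts R).2.1, (hpts R).2.2 inferInstance⟩
  have hs : Submodule.span K (Set.range ρ) = ⊤ :=
    hspan (inferInstanceAs (IsClosedImmersion (𝟙 (Red.bc (bs k K) (SpecOver k A)).left)))
  obtain ⟨hdom, hsmB⟩ := isDomain_of_iso e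
  -- the torus
  let TK := Red.bc (bs k K) T
  let iK : TK ⟶ Red.bc (bs k K) (SpecOver k A) := (Over.pullback (bs k K)).map i
  have hiK : Red.IsMaximalTorus iK := Sga3.H665.TorBcNA.isMaximalTorus_bc (bs k K) hi
  have hiK1 : IsMonHom iK := hiK.1
  have hiK2 : Mono iK := hiK.2.1
  obtain ⟨r, hr⟩ := TorusAlgClosed.exists_isSplitTorusWith hiK.2.2.1
  obtain ⟨eT, heT⟩ := RG.BrDiag.isSplitTorusWith_iff.1 hr
  obtain ⟨π, hπ⟩ := K14.CentMaxTorus.exists_bialg eT e iK
  have hicl : IsClosedImmersion iK.left :=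
    SGA3x.K5.MTNorm.isClosedImmersion_of_mono iK (_root_.K18.MTDesc.isMultTypeFT_of_isTorus hiK.2.2.1)
  have hπs : Function.Surjective π := by
    have h1 : IsClosedImmersion (specMap K (π : B →ₐ[K] MonoidAlgebra K (Multiplicative (Fin r → ℤ)))).left := by
      have h2 : specMap K (π : B →ₐ[K] MonoidAlgebra K (Multiplicative (Fin r → ℤ))) = eT.inv ≫ iK ≫ e.hom := by
        rw [hπ, Iso.inv_hom_id_assoc]
      rw [h2, Over.comp_left, Over.comp_left]
      infer_instance
    exact (isClosedImmersion_specMap_iff K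
      (π : B →ₐ[K] MonoidAlgebra K (Multiplicative (Fin r → ℤ)))).1 h1
  have hi' : Red.IsMaximalTorus (iK ≫ e.hom) := Sga3.H766.CartanBc.isMaximalTorus_comp_iso (Grp.mkIso' e) hiK
  have hTe : eT.inv ≫ iK = specMap K (π : B →ₐ[K] MonoidAlgebra K (Multiplicative (Fin r → ℤ))) ≫ e.inv := by
    rw [Iso.inv_comp_eq, ← Category.assoc, ← hπ, Category.assoc, Iso.hom_inv_id, Category.comp_id]
  have hkey : ∀ (R : Type u) [CommRing R] [Algebra k R] [Algebra K R] [IsScalarTower k K R]
      (β : GA K (Fin r → ℤ) →ₐ[K] R), toG (specMap K β ≫ eT.inv) ≫ i =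
        specMap k (resPt ρ (toConv (β.comp (π : B →ₐ[K] GA K (Fin r → ℤ))))).ofConv := by
    intro R _ _ _ _ β
    rw [← toG_map, ← key ρ e hρ', Category.assoc]
    congr 1
    change specMap K β ≫ eT.inv ≫ iK = _
    rw [hTe, ← Category.assoc, ← specMap_comp]
  refine ⟨r, tt ρ π, isHomT_tt π hres, ?_, ?_, ?_, ?_, ?_⟩
  · intro R _ _ _ _ φ
    constructor
    · rintro ⟨h, hh⟩
      let β : GA K (Fin r → ℤ) →ₐ[K] R := specPreimage K (toG.symm h ≫ eT.hom)
      have h1 : toG (specMap K β ≫ eT.inv) = h := by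
        rw [specMap_specPreimage, Category.assoc, Iso.hom_inv_id, Category.comp_id, MulEquiv.apply_symm_apply]
      refine ⟨(β : GA K (Fin r → ℤ) →* R).comp (MonoidAlgebra.of K (Multiplicative (Fin r → ℤ))), ?_⟩
      have h2 := hkey R β
      rw [h1, hh] at h2
      have h3 : φ.ofConv = (resPt ρ (toConv (β.comp (π : B →ₐ[K] GA K (Fin r → ℤ))))).ofConv :=
        specMap_injective k h2
      have h4 : MonoidAlgebra.lift K R (Multiplicative (Fin r → ℤ))
          ((β : GA K (Fin r → ℤ) →* R).comp (MonoidAlgebra.of K (Multiplicative (Fin r → ℤ)))) = β :=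
        (MonoidAlgebra.lift K R (Multiplicative (Fin r → ℤ))).apply_symm_apply β
      refine (WithConv.ofConv_injective h3).trans ?_
      rw [T_tt]
      refine pt_ext fun a => ?_
      exact (DFunLike.congr_fun h4 (π (ρ a))).symm
    · rintro ⟨c, rfl⟩
      exact ⟨_, hkey R (MonoidAlgebra.lift K R (Multiplicative (Fin r → ℤ)) c)⟩
  · intro R _ _ _ _ c c' hc
    exact T_injective π hbij hπs c c' hc
  · intro X hX hw
    obtain ⟨D, hD, rfl⟩ := exists_isDer hres hbij hX
    rw [isWt_resCv_iff π hres hs, isWt_iff] at hw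
    have hg : (gl K (0 : Fin r → ℤ)) = 1 := rfl
    rw [hg, one_smul] at hw
    obtain ⟨lam, hlam⟩ := K772.LieCent.main K B r π hπs TK (iK ≫ e.hom) hi' eT hπ D.ofConv hD hw
    refine ⟨lam, fun a => ?_⟩
    obtain ⟨n₀, hn⟩ := hlam (ρ a)
    refine ⟨n₀, fun n hnn => ?_⟩
    rw [← resCv_dh, ← resCv_sub, ← resCv_pow hres]
    exact hn n hnn
  · intro hr0
    obtain ⟨χ, lam, X, h1, h2, h3, h4⟩ := K979.Weight.main K B (by
      intro Z _ z _ _ hZm hzc
      have hv := hZ Z (z ≫ e.inv) hZm (by
        intro X x g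
        rw [← cancel_mono e.hom, MonObj.mul_comp, MonObj.mul_comp, Category.assoc, Category.assoc,
          Iso.inv_hom_id, Category.comp_id]
        exact hzc X x _)
      have hz1 : z = 1 := by
        have h5 := congrArg (fun q => q ≫ e.hom) hv
        simp only [Category.assoc, Iso.inv_hom_id, Category.comp_id] at h5
        rw [h5, MonObj.one_comp]
      apply isTrivialGrp_of_eq_one
      rw [← cancel_mono z, MonObj.one_comp, Category.id_comp, hz1]) r hr0 π hπs
    refine ⟨χ, lam, resCv ρ (toConv X), h1, ?_, resCv_isDer hres h3, ?_⟩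
    · intro h5
      apply h2
      have h6 : resCv ρ (toConv X) = resCv ρ (0 : Cv K B K) := h5
      exact congrArg WithConv.ofConv (resCv_injective hs h6)
    · rw [isWt_resCv_iff π hres hs, isWt_iff]
      refine h4.trans ?_
      rw [← smul_mul_assoc]
      rfl
  · intro hr0
    subst hr0
    apply isTrivialGrp_of_bc (K := K)
    apply isTrivialGrp_of_eq_one
    have h1 : AlgHom.id K (MonoidAlgebra K (Multiplicative (Fin 0 → ℤ))) =
        (1 : WithConv (MonoidAlgebra K (Multiplicative (Fin 0 → ℤ)) →ₐ[K]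
          MonoidAlgebra K (Multiplicative (Fin 0 → ℤ)))).ofConv := by
      refine AlgHom.ext fun x => ?_
      induction x using MonoidAlgebra.induction_linear with
      | zero => rw [map_zero, map_zero]
      | add x y hx hy => rw [map_add, hx, hy, map_add]
      | single n c =>
        have hn : n = 1 := Subsingleton.elim _ _
        subst hn
        change MonoidAlgebra.single 1 c = algebraMap K _ (Coalgebra.counit (R := K) (MonoidAlgebra.single 1 c))
        rw [MonoidAlgebra.counit_single]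
        rfl
    have h2 : 𝟙 (SpecOver K (MonoidAlgebra K (Multiplicative (Fin 0 → ℤ)))) = 1 := by
      rw [← specMap_id, h1, specMap_one]
    have h3 : eT.hom = 1 := by
      have h4 := congrArg (fun q => eT.hom ≫ q) h2
      simp only [Category.comp_id, MonObj.comp_one] at h4
      exact h4
    rw [← cancel_mono eT.hom, MonObj.one_comp, Category.id_comp, h3]

/-- **Node S1.** -/
theorem main : S1_split.{u} := by
  intro k K A _ _ _ _ _ _ _ hsm T _ i hi hZ
  exact core k K A T i hi hZ

end K796.Split
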