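import Groth.Agent.SGA3x.K197.RatWt
import Groth.Agent.SGA3x.K197.RatNodes2

/-!
# Restriction of linear forms along `ρ : A → B`

`A` a Hopf algebra over `k`, `B` one over `K ⊇ k`, `ρ : A →ₐ[k] B` such that the restriction of points
`resPt ρ` is multiplicative. Then the restriction of linear maps `resCv ρ` is multiplicative, preserves
`ε`-derivations, weights, and tangent vectors of diagonalizable subgroups.
-/

set_option autoImplicit false
universe u
open Coalgebra WithConv TensorProduct

namespace K796.ResCv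

open K197.Rat

noncomputable section

variable {k K A B : Type u} [Field k] [Field K] [Algebra k K] [CommRing A] [HopfAlgebra k A] [CommRing B]
  [HopfAlgebra K B] [Algebra k B] [IsScalarTower k K B] (ρ : A →ₐ[k] B)

variable (K) in
/-- the restriction of points is multiplicative -/
def IsRes : Prop :=
  ∀ (R : Type u) [CommRing R] [Algebra k R] [Algebra K R] [IsScalarTower k K R] (ψ ψ' : Pt K B R),
    resPt ρ (ψ * ψ') = resPt ρ ψ * resPt ρ ψ'

variable {ρ}

lemma resPt_apply {R : Type u} [CommRing R] [Algebra k R] [Algebra K R] [IsScalarTower k K R] (ψ : Pt K B R) (a : A) :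
    resPt ρ ψ a = ψ (ρ a) := rfl

lemma resPt_one (h : IsRes K ρ) {R : Type u} [CommRing R] [Algebra k R] [Algebra K R] [IsScalarTower k K R] :
    resPt ρ (1 : Pt K B R) = 1 := by
  have h1 := h R 1 1
  rw [_root_.mul_one] at h1
  exact (mul_eq_left.1 h1.symm)

/-- the counit -/
lemma counit_rho (h : IsRes K ρ) (a : A) : counit (R := K) (ρ a) = algebraMap k K (counit (R := k) a) := by
  have h1 := DFunLike.congr_fun (congrArg WithConv.ofConv (resPt_one h (R := K))) a
  exact h1

/-- the comultiplication -/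
lemma comul_rho (h : IsRes K ρ) (a : A) : comul (R := K) (ρ a) =
    ∑ i ∈ (ℛ k a).index, ρ ((ℛ k a).left i) ⊗ₜ[K] ρ ((ℛ k a).right i) := by
  let R₂ := B ⊗[K] B
  have htow : IsScalarTower k K R₂ := inferInstance
  let ψ : Pt K B R₂ := toConv (Algebra.TensorProduct.includeLeft (R := K) (S := K) (A := B) (B := B))
  let ψ' : Pt K B R₂ := toConv (Algebra.TensorProduct.includeRight (R := K) (A := B) (B := B))
  have h1 : (ψ * ψ') (ρ a) = comul (R := K) (ρ a) := by
    change (lin ψ * lin ψ') (ρ a) = _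
    rw [(ℛ K (ρ a)).convMul_apply, ← (ℛ K (ρ a)).eq]
    refine Finset.sum_congr rfl fun i _ => ?_
    change ((ℛ K (ρ a)).left i ⊗ₜ[K] (1 : B)) * ((1 : B) ⊗ₜ[K] (ℛ K (ρ a)).right i) = _
    rw [Algebra.TensorProduct.tmul_mul_tmul, _root_.mul_one, _root_.one_mul]
  have h2 : (resPt ρ ψ * resPt ρ ψ') a =
      ∑ i ∈ (ℛ k a).index, ρ ((ℛ k a).left i) ⊗ₜ[K] ρ ((ℛ k a).right i) := by
    change (lin (resPt ρ ψ) * lin (resPt ρ ψ')) a = _
    rw [(ℛ k a).convMul_apply]
    refine Finset.sum_congr rfl fun i _ => ?_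
    change (ρ ((ℛ k a).left i) ⊗ₜ[K] (1 : B)) * ((1 : B) ⊗ₜ[K] ρ ((ℛ k a).right i)) = _
    rw [Algebra.TensorProduct.tmul_mul_tmul, _root_.mul_one, _root_.one_mul]
  rw [← h1, ← h2, ← h R₂ ψ ψ']
  rfl

section res

variable {R : Type u} [CommRing R] [Algebra k R] [Algebra K R] [IsScalarTower k K R]

variable (ρ) in
/-- Restriction of linear maps along `ρ`. -/
def resCv (D : Cv K B R) : Cv k A R := toConv ((D.ofConv.restrictScalars k).comp ρ.toLinearMap)

lemma resCv_apply (D : Cv K B R) (a : A) : resCv ρ D a = D (ρ a) := rfl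

lemma resCv_mul (h : IsRes K ρ) (D D' : Cv K B R) : resCv ρ (D * D') = resCv ρ D * resCv ρ D' := by
  refine cv_ext fun a => ?_
  rw [resCv_apply, (ℛ k a).convMul_apply, LinearMap.convMul_apply, comul_rho h, map_sum, map_sum]
  refine Finset.sum_congr rfl fun i _ => ?_
  rfl

lemma resCv_one (h : IsRes K ρ) : resCv ρ (1 : Cv K B R) = 1 := congrArg lin (resPt_one h (R := R))

lemma resCv_sub (D D' : Cv K B R) : resCv ρ (D - D') = resCv ρ D - resCv ρ D' := rfl

lemma resCv_zero : resCv ρ (0 : Cv K B R) = 0 := rfl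

lemma resCv_smul (r : R) (D : Cv K B R) : resCv ρ (r • D) = r • resCv ρ D := rfl

lemma resCv_pow (h : IsRes K ρ) (D : Cv K B R) (n : ℕ) : resCv ρ (D ^ n) = resCv ρ D ^ n := by
  induction n with
  | zero => rw [pow_zero, pow_zero, resCv_one h]
  | succ n ih => rw [pow_succ, pow_succ, resCv_mul h, ih]

lemma resCv_lin (ψ : Pt K B R) : resCv ρ (lin ψ) = lin (resPt ρ ψ) := rfl

lemma resCv_injective (hs : Submodule.span K (Set.range ρ) = ⊤) :
    Function.Injective (resCv ρ : Cv K B R → Cv k A R) := by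
  intro D D' h
  apply WithConv.ofConv_injective
  refine LinearMap.ext_on_range hs fun a => ?_
  exact DFunLike.congr_fun (congrArg WithConv.ofConv h) a

lemma resCv_isDer (h : IsRes K ρ) {D : Cv K B R} (hD : IsDer D) : IsDer (resCv ρ D) := by
  rw [isDer_iff] at hD ⊢
  intro a b
  rw [resCv_apply, resCv_apply, resCv_apply, map_mul, hD, counit_rho h, counit_rho h,
    ← IsScalarTower.algebraMap_apply, ← IsScalarTower.algebraMap_apply]

end res

/-- **`ε`-derivations lift along `ρ`.** -/
lemma exists_isDer (h : IsRes K ρ)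
    (hb : ∀ (R : Type u) [CommRing R] [Algebra k R] [Algebra K R] [IsScalarTower k K R],
      Function.Bijective (resPt ρ : Pt K B R → Pt k A R)) {X : Cv k A K} (hX : IsDer X) :
    ∃ D : Cv K B K, IsDer D ∧ resCv ρ D = X := by
  obtain ⟨ψ, hψ⟩ := (hb (DualNumber K)).2 (exd X hX)
  have h1 : ptMap (K197.Rat.fst K K) ψ = 1 := by
    apply (hb K).1
    rw [resPt_one h]
    have h2 : resPt ρ (ptMap (K197.Rat.fst K K) ψ) = ptMap (K197.Rat.fst k K) (resPt ρ ψ) := rfl
    rw [h2, hψ, fst_ex]
  obtain ⟨D, hD, hDψ⟩ := exists_ex ψ h1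
  refine ⟨D, hD, cv_ext fun a => ?_⟩
  have h2 : (resPt ρ ψ) a = (exd X hX) a := by rw [hψ]
  rw [hDψ] at h2
  have h3 := congrArg TrivSqZeroExt.snd h2
  change (algebraMap K (DualNumber K) (counit (R := K) (ρ a)) + DualNumber.eps * inl K K (D (ρ a))).snd =
    (algebraMap k (DualNumber K) (counit (R := k) a) + DualNumber.eps * inl k K (X a)).snd at h3
  rw [inl_apply, inl_apply] at h3
  rw [resCv_apply]
  simpa [TrivSqZeroExt.algebraMap_eq_inl'] using h3

section tor

variable {N : Type} [AddCommGroup N] (t' : B →ₐc[K] GA K N)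

variable (ρ) in
/-- the homomorphism `D(N) → Spec A` -/
def tt : Pt k A (GA K N) := resPt ρ (toConv (t' : B →ₐ[K] GA K N))

lemma tt_apply (a : A) : tt ρ t' a = t' (ρ a) := rfl

lemma T_tt {R : Type u} [CommRing R] [Algebra k R] [Algebra K R] [IsScalarTower k K R] (c : Multiplicative N →* R) :
    K197.Rat.T (tt ρ t') c = resPt ρ (K197.Rat.T (toConv (t' : B →ₐ[K] GA K N)) c) := rfl

omit [Field k] [Algebra k K] [Algebra k B] [IsScalarTower k K B] in
lemma T_mul {R : Type u} [CommRing R] [Algebra K R] (c c' : Multiplicative N →* R) :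
    K197.Rat.T (toConv (t' : B →ₐ[K] GA K N)) c * K197.Rat.T (toConv (t' : B →ₐ[K] GA K N)) c' =
      K197.Rat.T (toConv (t' : B →ₐ[K] GA K N)) (c * c') := by
  -- both sides are pulled back along the bialgebra map `t'`
  let m : GA K N ⊗[K] GA K N →ₐ[K] R :=
    Algebra.TensorProduct.lift (MonoidAlgebra.lift K R (Multiplicative N) c)
      (MonoidAlgebra.lift K R (Multiplicative N) c') (fun _ _ => .all _ _)
  have h2 : ∀ x : GA K N, m (comul (R := K) x) = MonoidAlgebra.lift K R (Multiplicative N) (c * c') x := by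
    intro x
    induction x using MonoidAlgebra.induction_linear with
    | zero => simp only [map_zero]
    | add x y hx hy => simp only [map_add, hx, hy]
    | single n r =>
      rw [MonoidAlgebra.comul_single]
      simp only [CommSemiring.comul_apply, TensorProduct.map_tmul, MonoidAlgebra.lift_single]
      change m (MonoidAlgebra.single n 1 ⊗ₜ[K] MonoidAlgebra.single n r) = _
      rw [Algebra.TensorProduct.lift_tmul, MonoidAlgebra.lift_single, MonoidAlgebra.lift_single, one_smul,
        mul_smul_comm]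
      rfl
  refine pt_ext fun b => ?_
  change (lin (K197.Rat.T (toConv (t' : B →ₐ[K] GA K N)) c) *
    lin (K197.Rat.T (toConv (t' : B →ₐ[K] GA K N)) c')) b = MonoidAlgebra.lift K R (Multiplicative N) (c * c') (t' b)
  rw [← h2, ← CoalgHomClass.map_comp_comul_apply t' b, LinearMap.convMul_apply]
  generalize comul (R := K) b = z
  induction z with
  | zero => simp only [map_zero]
  | add x y hx hy => simp only [map_add, hx, hy]
  | tmul x y => rfl

lemma isHomT_tt (h : IsRes K ρ) : IsHomT (tt ρ t') := by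
  intro R _ _ _ _ c c'
  rw [T_tt, T_tt, T_tt, ← h, T_mul]

lemma T_injective (hb : ∀ (R : Type u) [CommRing R] [Algebra k R] [Algebra K R] [IsScalarTower k K R],
      Function.Bijective (resPt ρ : Pt K B R → Pt k A R)) (ht : Function.Surjective t')
    {R : Type u} [CommRing R] [Algebra k R] [Algebra K R] [IsScalarTower k K R] (c c' : Multiplicative N →* R)
    (hc : K197.Rat.T (tt ρ t') c = K197.Rat.T (tt ρ t') c') : c = c' := by
  rw [T_tt, T_tt] at hc
  have h1 := (hb R).1 hc
  refine MonoidHom.ext fun n => ?_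
  obtain ⟨b, hb'⟩ := ht (MonoidAlgebra.single n 1)
  have h2 := DFunLike.congr_fun (congrArg WithConv.ofConv h1) b
  change MonoidAlgebra.lift K R (Multiplicative N) c (t' b) = MonoidAlgebra.lift K R (Multiplicative N) c' (t' b) at h2
  rw [hb', MonoidAlgebra.lift_single, MonoidAlgebra.lift_single, one_smul, one_smul] at h2
  exact h2

lemma resCv_dh (lam : N →+ K) : resCv ρ (dh (toConv (t' : B →ₐ[K] GA K N)) lam) = dh (tt ρ t') lam := rfl

/-- weights correspond -/
lemma isWt_resCv_iff (h : IsRes K ρ) (hs : Submodule.span K (Set.range ρ) = ⊤) (χ : N) (D : Cv K B K) :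
    IsWt (tt ρ t') χ (resCv ρ D) ↔ IsWt (toConv (t' : B →ₐ[K] GA K N)) χ D := by
  rw [isWt_iff, isWt_iff]
  have h1 : (up K (GA K N) (resCv ρ D) : Cv k A (GA K N)) = resCv ρ (up K (GA K N) D) := rfl
  have h2 : (lin (tt ρ t') : Cv k A (GA K N)) = resCv ρ (lin (toConv (t' : B →ₐ[K] GA K N))) := rfl
  rw [h1, h2, ← resCv_mul h, ← resCv_mul h, ← resCv_smul]
  exact (resCv_injective hs).eq_iff

end tor

end

end K796.ResCv
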